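import Mathlib
import Groth.Agent.RichLib.LimitDescentFlat
import Groth.Agent.TransLib.SyntMor
import Groth.Agent.TransLib.DescSynt

/-!
# Syntomic morphisms descend along affine limits
-/

set_option autoImplicit false
set_option linter.all false
universe u

open CategoryTheory CategoryTheory.Limits AlgebraicGeometry Topology TensorProduct

noncomputable section

namespace SyntLimLib

open RichLib.LimBC TransLib

theorem syntMor_snd_iff {W S T : Scheme.{u}} [IsAffine W] [IsAffine S] [IsAffine T] (g : W ⟶ S) (t : T ⟶ S)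
    [Algebra Γ(S, ⊤) Γ(W, ⊤)] [Algebra Γ(S, ⊤) Γ(T, ⊤)]
    (hg : g.appTop.hom = algebraMap Γ(S, ⊤) Γ(W, ⊤)) (ht : t.appTop.hom = algebraMap Γ(S, ⊤) Γ(T, ⊤)) :
    SyntMor (pullback.snd g t) ↔ Synt.IsSyntomic Γ(T, ⊤) (Γ(T, ⊤) ⊗[Γ(S, ⊤)] Γ(W, ⊤)) := by
  have hR := isPullback_spec g Γ(T, ⊤) hg
  have hs : T.isoSpec.inv ≫ t =
      Spec.map (CommRingCat.ofHom (algebraMap Γ(S, ⊤) Γ(T, ⊤))) ≫ S.isoSpec.inv := by
    rw [← Scheme.isoSpec_inv_naturality, ← ht, CommRingCat.ofHom_hom]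
  have hR' : IsPullback (Spec.map (CommRingCat.ofHom
        (Algebra.TensorProduct.includeRight : Γ(W, ⊤) →ₐ[Γ(S, ⊤)] Γ(T, ⊤) ⊗[Γ(S, ⊤)] Γ(W, ⊤)).toRingHom) ≫ W.isoSpec.inv)
      (Spec.map (CommRingCat.ofHom
        (Algebra.TensorProduct.includeLeftRingHom : Γ(T, ⊤) →+* Γ(T, ⊤) ⊗[Γ(S, ⊤)] Γ(W, ⊤))) ≫ T.isoSpec.inv) g t := by
    refine hR.of_iso (Iso.refl _) (Iso.refl _) T.isoSpec.symm (Iso.refl _) (by simp) (by simp) (by simp) ?_
    simp [hs]
  rw [← hR'.isoPullback_inv_snd, MorphismProperty.cancel_left_of_respectsIso SyntMor,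
    MorphismProperty.cancel_right_of_respectsIso SyntMor, HasRingHomProperty.Spec_iff (P := SyntMor)]
  exact syntHom_algebraMap (R := Γ(T, ⊤)) (S := Γ(T, ⊤) ⊗[Γ(S, ⊤)] Γ(W, ⊤))

variable {I : Type u} [SmallCategory I] [IsCofiltered I] {S : Scheme.{u}} (A : Sys I S)
  {W : Scheme.{u}} (g : W ⟶ S)

theorem exists_at_synt_affine [IsAffine S] [IsAffine W] [LocallyOfFinitePresentation g]
    (h : AtLim A g SyntMor) : ∃ i, At A g SyntMor i := by
  haveI : IsAffineHom A.s := A.affine_s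
  haveI : IsAffine A.c.pt := isAffine_of_isAffineHom A.s
  haveI := A.isAffine_obj
  letI : Algebra Γ(S, ⊤) Γ(W, ⊤) := g.appTop.hom.toAlgebra
  letI : Algebra Γ(S, ⊤) Γ(A.c.pt, ⊤) := A.s.appTop.hom.toAlgebra
  letI : ∀ i, Algebra Γ(S, ⊤) Γ(A.D.obj i, ⊤) := fun i => (A.t i).appTop.hom.toAlgebra
  haveI : Algebra.FinitePresentation Γ(S, ⊤) Γ(W, ⊤) :=
    (HasRingHomProperty.iff_of_isAffine (P := @LocallyOfFinitePresentation)).mp ‹_›
  let π : ∀ i, Γ(A.D.obj i, ⊤) →ₐ[Γ(S, ⊤)] Γ(A.c.pt, ⊤) := fun i =>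
    { (A.c.π.app i).appTop.hom with
      commutes' := fun r => by
        show (A.c.π.app i).appTop.hom ((A.t i).appTop.hom r) = A.s.appTop.hom r
        rw [← appTop_comp, A.hs] }
  let mp : ∀ {i j : I} (a : i ⟶ j), Hom π j i := fun {i j} a =>
    ⟨{ (A.D.map a).appTop.hom with
      commutes' := fun r => by
        show (A.D.map a).appTop.hom ((A.t j).appTop.hom r) = (A.t i).appTop.hom r
        rw [← appTop_comp, A.w] }, AlgHom.ext fun x => by
        show (A.c.π.app i).appTop.hom ((A.D.map a).appTop.hom x) = (A.c.π.app j).appTop.hom x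
        rw [← appTop_comp, A.c.w]⟩
  have : Nonempty I := IsCofiltered.nonempty
  have hsurj : ∀ b : Γ(A.c.pt, ⊤), ∃ i, ∃ x, π i x = b := fun b => exists_appTop_π_eq A b
  have hjoin : ∀ i j, ∃ k, Nonempty (Hom π i k) ∧ Nonempty (Hom π j k) := fun i j =>
    ⟨IsCofiltered.min i j, ⟨mp (IsCofiltered.minToLeft i j)⟩, ⟨mp (IsCofiltered.minToRight i j)⟩⟩
  have hkill : ∀ i x, π i x = 0 → ∃ j, ∃ t : Hom π i j, t.1 x = 0 := fun i x hx => by
    obtain ⟨j, a, hj⟩ := exists_appTop_map_eq_zero_of_isAffine_of_isLimit A.D A.c A.hc i x hx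
    exact ⟨j, mp a, hj⟩
  obtain ⟨i, hi⟩ := exists_stage_syntomic hsurj hjoin hkill ((syntMor_snd_iff g A.s rfl rfl).1 h)
  exact ⟨i, (syntMor_snd_iff g (A.t i) rfl rfl).2 hi⟩

theorem exists_at_synt [CompactSpace S] [QuasiCompact g] [LocallyOfFinitePresentation g]
    (h : AtLim A g SyntMor) : ∃ i, At A g SyntMor i := by
  refine exists_at_of_local A g SyntMor h fun {U} ι _ _ hU => ?_
  let k := pullback.snd g ι
  haveI : CompactSpace ↥(pullback g ι) := QuasiCompact.compactSpace_of_compactSpace k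
  let B := pb A ι
  let 𝒰 := (pullback g ι).affineCover.finiteSubcover
  haveI : Finite 𝒰.I₀ := inferInstance
  have hp : ∀ l : 𝒰.I₀, ∃ i, At B (𝒰.f l ≫ k) SyntMor i := fun l => by
    haveI : IsAffine (𝒰.X l) := inferInstanceAs (IsAffine (Spec _))
    refine exists_at_synt_affine B _ ?_
    show SyntMor (pullback.snd (𝒰.f l ≫ k) B.s)
    rw [← pullbackRightPullbackFstIso_inv_snd_snd, MorphismProperty.cancel_left_of_respectsIso SyntMor]
    exact HasRingHomProperty.comp_of_isOpenImmersion SyntMor _ _ hU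
  obtain ⟨i, hi⟩ := exists_stage (fun l i => At B (𝒰.f l ≫ k) SyntMor i)
    (fun l _ _ a => at_of_hom B (𝒰.f l ≫ k) a) hp
  refine ⟨i, IsZariskiLocalAtSource.of_openCover (𝒰.pullback₁ (pullback.fst k (B.t i))) fun l => ?_⟩
  let l' : 𝒰.I₀ := l
  show SyntMor (pullback.fst (pullback.fst k (B.t i)) (𝒰.f l') ≫ pullback.snd k (B.t i))
  rw [← pullbackSymmetry_hom_comp_snd (pullback.fst k (B.t i)) (𝒰.f l'), Category.assoc,
    MorphismProperty.cancel_left_of_respectsIso SyntMor, ← pullbackRightPullbackFstIso_hom_snd,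
    MorphismProperty.cancel_left_of_respectsIso SyntMor]
  exact hi l'

end SyntLimLib
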